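import Groth.Agent.ModPairLib.EffCartier
import Groth.Agent.Misc15.DivDescentSheaf
import Groth.Agent.FlatMor12.RegularExtend
import Mathlib

/-!
# Sections over the complement of a Cartier divisor and where they extend
-/

set_option autoImplicit false
set_option backward.isDefEq.respectTransparency false
set_option linter.style.haveILetI false

universe u

open CategoryTheory CategoryTheory.Limits AlgebraicGeometry Opposite TopologicalSpace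
open Groth.Agent
open Groth.Agent.FlatMor12.RegularExtend (res res_res)

namespace Groth.Agent.ExtPred28

variable {P Y Z : Scheme.{u}} (p : Y ⟶ P) {Q : P.Opens} (s : Q.toScheme ⟶ Y) (hs : s ≫ p = Q.ι)

include hs in
theorem preimage_le {V O : P.Opens} (hV : O ≤ V) : Q.ι ⁻¹ᵁ O ≤ s ⁻¹ᵁ (p ⁻¹ᵁ V) := fun q hq => by
  show p (s q) ∈ V
  rw [← Scheme.Hom.comp_apply, hs]
  exact hV hq

theorem le_image {O : P.Opens} (hO : O ≤ Q) : O ≤ Q.ι ''ᵁ (Q.ι ⁻¹ᵁ O) :=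
  fun y hy => ⟨⟨y, hO hy⟩, hy, rfl⟩

/-- The function on `O ⊆ Q ∩ V` defined by the section and a function over `V`. -/
noncomputable def sRes (V O : P.Opens) (hO : O ≤ Q) (hV : O ≤ V) :
    Γ(Y, p ⁻¹ᵁ V) ⟶ Γ(P, O) :=
  s.appLE (p ⁻¹ᵁ V) (Q.ι ⁻¹ᵁ O) (preimage_le p s hs hV) ≫ P.presheaf.map (homOfLE (le_image hO)).op

theorem sRes_map (V O O' : P.Opens) (hO : O ≤ Q) (hV : O ≤ V) (h : O' ≤ O) :
    sRes p s hs V O hO hV ≫ P.presheaf.map (homOfLE h).op =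
      sRes p s hs V O' (h.trans hO) (h.trans hV) := by
  rw [sRes, sRes, Category.assoc, ← Functor.map_comp,
    ← Scheme.Hom.appLE_map s (preimage_le p s hs hV) (homOfLE (Q.ι.preimage_mono h)).op,
    Category.assoc, Scheme.Opens.toScheme_presheaf_map, ← Functor.map_comp]
  rfl

theorem map_sRes (V V' O : P.Opens) (hO : O ≤ Q) (hV : O ≤ V') (h : V' ≤ V) :
    Y.presheaf.map (homOfLE (p.preimage_mono h)).op ≫ sRes p s hs V' O hO hV =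
      sRes p s hs V O hO (hV.trans h) := by
  rw [sRes, sRes, Scheme.Hom.map_appLE_assoc]

theorem app_sRes (V O : P.Opens) (hO : O ≤ Q) (hV : O ≤ V) :
    p.app V ≫ sRes p s hs V O hO hV = P.presheaf.map (homOfLE hV).op := by
  have h : p.app V ≫ s.appLE (p ⁻¹ᵁ V) (Q.ι ⁻¹ᵁ O) (preimage_le p s hs hV) =
      Q.ι.appLE V (Q.ι ⁻¹ᵁ O) (Q.ι.preimage_mono hV) := by
    rw [p.app_eq_appLE, Scheme.Hom.appLE_comp_appLE]
    simp only [hs]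
  rw [sRes, reassoc_of% h, Scheme.Opens.ι_appLE, ← Functor.map_comp]
  rfl

/-- The section extends near every point of `Z`. -/
def Ext (f : Z ⟶ P) : Prop :=
  ∀ (z : Z) (V : P.Opens), f z ∈ V → ∀ c : Γ(Y, p ⁻¹ᵁ V),
    ∃ (N : Z.Opens) (_ : z ∈ N) (hN : N ≤ f ⁻¹ᵁ V) (r : Γ(Z, N)),
      res (inf_le_left : N ⊓ f ⁻¹ᵁ Q ≤ N) r =
        f.appLE (V ⊓ Q) (N ⊓ f ⁻¹ᵁ Q) (fun _ hx => ⟨hN hx.1, hx.2⟩)
          (sRes p s hs V (V ⊓ Q) inf_le_right inf_le_left c)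

variable {p s hs}

theorem Ext.comp {f : Z ⟶ P} (h : Ext p s hs f) {Z' : Scheme.{u}} (g : Z' ⟶ Z) :
    Ext p s hs (g ≫ f) := by
  intro z V hz c
  obtain ⟨N, hzN, hN, r, hr⟩ := h (g z) V hz c
  refine ⟨g ⁻¹ᵁ N, hzN, fun x hx => hN hx, g.app N r, ?_⟩
  have e : g ⁻¹ᵁ N ⊓ (g ≫ f) ⁻¹ᵁ Q ≤ g ⁻¹ᵁ (N ⊓ f ⁻¹ᵁ Q) := fun x hx => hx
  have h2 := congrArg (g.appLE (N ⊓ f ⁻¹ᵁ Q) (g ⁻¹ᵁ N ⊓ (g ≫ f) ⁻¹ᵁ Q) e) hr
  refine Eq.trans ?_ (h2.trans ?_)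
  · show (g.app N ≫ Z'.presheaf.map _) r = (Z.presheaf.map _ ≫ g.appLE _ _ e) r
    rw [Scheme.Hom.map_appLE]
    rfl
  · rw [← ConcreteCategory.comp_apply, Scheme.Hom.appLE_comp_appLE]

variable (p s hs) in
/-- A chart: equation of the complement and denominators of generators. -/
structure Chart where
  V : P.Opens
  hV : IsAffineOpen V
  t : Γ(P, V)
  hVQ : V ⊓ Q = P.basicOpen t
  G : Finset Γ(Y, p ⁻¹ᵁ V)
  hG : letI := (p.app V).hom.toAlgebra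
    Algebra.adjoin Γ(P, V) (G : Set Γ(Y, p ⁻¹ᵁ V)) = ⊤
  N : ℕ
  num : Γ(Y, p ⁻¹ᵁ V) → Γ(P, V)
  hnum : ∀ c ∈ G, res (inf_le_left : V ⊓ Q ≤ V) (num c) =
    res (inf_le_left : V ⊓ Q ≤ V) t ^ N * sRes p s hs V (V ⊓ Q) inf_le_right inf_le_left c

theorem isUnit_res_t (ch : Chart p s hs) :
    IsUnit (res (inf_le_left : ch.V ⊓ Q ≤ ch.V) ch.t) := by
  rw [← res_res (P.basicOpen_le ch.t) ch.hVQ.le]
  exact (RingedSpace.isUnit_res_basicOpen P.toRingedSpace _).map _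

variable {f : Z ⟶ P} (ch : Chart p s hs)

/-- The germ of a function on the base. -/
noncomputable def germF (f : Z ⟶ P) {V : P.Opens} (z : Z) (hz : f z ∈ V) (b : Γ(P, V)) :
    Z.presheaf.stalk z :=
  Z.presheaf.germ (f ⁻¹ᵁ V) z hz (f.app V b)

theorem germ_res' {O O' : Z.Opens} (h : O' ≤ O) (z : Z) (hz : z ∈ O') (a : Γ(Z, O)) :
    Z.presheaf.germ O' z hz (res h a) = Z.presheaf.germ O z (h hz) a :=
  TopCat.Presheaf.germ_res_apply _ _ _ _ _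

/-- Extendable generators are divisible. -/
theorem dvd_of_ext (hd : ModPairLib.IsDenseOpen (f ⁻¹ᵁ Q)) (h : Ext p s hs f) (z : Z) (hz : f z ∈ ch.V)
    {c : Γ(Y, p ⁻¹ᵁ ch.V)} (hc : c ∈ ch.G) :
    germF f z hz ch.t ^ ch.N ∣ germF f z hz (ch.num c) := by
  obtain ⟨N, hzN, hN, r, hr⟩ := h z ch.V hz c
  let a := res hN (f.app ch.V (ch.num c))
  let b := res hN (f.app ch.V ch.t)
  have hb : a = b ^ ch.N * r := by
    rw [← sub_eq_zero]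
    refine hd N _ ?_
    show res (inf_le_left : N ⊓ f ⁻¹ᵁ Q ≤ N) (a - b ^ ch.N * r) = 0
    rw [map_sub, map_mul, map_pow, hr, sub_eq_zero]
    have e : N ⊓ f ⁻¹ᵁ Q ≤ f ⁻¹ᵁ (ch.V ⊓ Q) := fun x hx => ⟨hN hx.1, hx.2⟩
    have key : ∀ d : Γ(P, ch.V), res (inf_le_left : N ⊓ f ⁻¹ᵁ Q ≤ N) (res hN (f.app ch.V d)) =
        f.appLE (ch.V ⊓ Q) (N ⊓ f ⁻¹ᵁ Q) e (res (inf_le_left : ch.V ⊓ Q ≤ ch.V) d) := fun d => by
      rw [res_res]
      show (f.app ch.V ≫ Z.presheaf.map _) d = (P.presheaf.map _ ≫ f.appLE _ _ e) d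
      rw [Scheme.Hom.map_appLE]
      rfl
    rw [key, key, ch.hnum c hc, map_mul, map_pow]
  refine ⟨Z.presheaf.germ N z hzN r, ?_⟩
  have h2 := congrArg (Z.presheaf.germ N z hzN) hb
  rw [map_mul, map_pow, germ_res', germ_res'] at h2
  exact h2

variable (f) in
/-- Functions over the chart extending near `z`. -/
def Extends (z : Z) (c : Γ(Y, p ⁻¹ᵁ ch.V)) : Prop :=
  ∃ (N : Z.Opens) (_ : z ∈ N) (hN : N ≤ f ⁻¹ᵁ ch.V) (r : Γ(Z, N)),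
    res (inf_le_left : N ⊓ f ⁻¹ᵁ Q ≤ N) r =
      f.appLE (ch.V ⊓ Q) (N ⊓ f ⁻¹ᵁ Q) (fun _ hx => ⟨hN hx.1, hx.2⟩)
        (sRes p s hs ch.V (ch.V ⊓ Q) inf_le_right inf_le_left c)

theorem res_appLE {O : P.Opens} {W W' : Z.Opens} (e : W ≤ f ⁻¹ᵁ O) (h : W' ≤ W) (d : Γ(P, O)) :
    res h (f.appLE O W e d) = f.appLE O W' (h.trans e) d := by
  show (f.appLE O W e ≫ Z.presheaf.map _) d = _
  rw [Scheme.Hom.appLE_map]

theorem extends_all (z : Z) (hz : f z ∈ ch.V)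
    (hG : ∀ c ∈ ch.G, germF f z hz ch.t ^ ch.N ∣ germF f z hz (ch.num c)) (c : Γ(Y, p ⁻¹ᵁ ch.V)) :
    Extends f ch z c := by
  letI := (p.app ch.V).hom.toAlgebra
  have hc : c ∈ Algebra.adjoin Γ(P, ch.V) (ch.G : Set Γ(Y, p ⁻¹ᵁ ch.V)) := by
    rw [ch.hG]; trivial
  have bin : ∀ (op : ∀ {R : Type u} [CommRing R], R → R → R),
      (∀ {R R' : Type u} [CommRing R] [CommRing R'] (φ : R →+* R') (a b : R),
        φ (op a b) = op (φ a) (φ b)) →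
      ∀ {c₁ c₂ : Γ(Y, p ⁻¹ᵁ ch.V)}, Extends f ch z c₁ → Extends f ch z c₂ →
        Extends f ch z (op c₁ c₂) := by
    rintro op hop c₁ c₂ ⟨N₁, h₁, hN₁, r₁, e₁⟩ ⟨N₂, h₂, hN₂, r₂, e₂⟩
    refine ⟨N₁ ⊓ N₂, ⟨h₁, h₂⟩, inf_le_left.trans hN₁,
      op (res (inf_le_left : N₁ ⊓ N₂ ≤ N₁) r₁) (res (inf_le_right : N₁ ⊓ N₂ ≤ N₂) r₂), ?_⟩
    have l₁ : N₁ ⊓ N₂ ⊓ f ⁻¹ᵁ Q ≤ N₁ ⊓ f ⁻¹ᵁ Q := inf_le_inf_right _ inf_le_left
    have l₂ : N₁ ⊓ N₂ ⊓ f ⁻¹ᵁ Q ≤ N₂ ⊓ f ⁻¹ᵁ Q := inf_le_inf_right _ inf_le_right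
    have f₁ := congrArg (res l₁) e₁
    have f₂ := congrArg (res l₂) e₂
    rw [res_res, res_appLE] at f₁ f₂
    rw [hop, res_res, res_res, hop, hop, f₁, f₂]
  refine Algebra.adjoin_induction ?_ ?_ ?_ ?_ hc
  · intro c hc
    obtain ⟨w, hw⟩ := hG c hc
    obtain ⟨N, hzN, r, rfl⟩ := Z.presheaf.exists_germ_eq w
    let N' := N ⊓ f ⁻¹ᵁ ch.V
    have hzN' : z ∈ N' := ⟨hzN, hz⟩
    have e : Z.presheaf.germ N' z hzN' (res (inf_le_right : N' ≤ f ⁻¹ᵁ ch.V) (f.app ch.V (ch.num c))) =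
        Z.presheaf.germ N' z hzN' (res (inf_le_right : N' ≤ f ⁻¹ᵁ ch.V) (f.app ch.V ch.t) ^ ch.N *
          res (inf_le_left : N' ≤ N) r) := by
      rw [map_mul, map_pow, germ_res', germ_res', germ_res']
      exact hw
    obtain ⟨M, hzM, i, i', hi⟩ := Z.presheaf.germ_eq z hzN' hzN' _ _ e
    refine ⟨M, hzM, i.le.trans inf_le_right, res (i.le.trans inf_le_left) r, ?_⟩
    have e' : M ⊓ f ⁻¹ᵁ Q ≤ f ⁻¹ᵁ (ch.V ⊓ Q) := fun x hx => ⟨(i.le hx.1).2, hx.2⟩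
    have key : ∀ d : Γ(P, ch.V),
        res ((inf_le_left : M ⊓ f ⁻¹ᵁ Q ≤ M).trans (i.le.trans inf_le_right)) (f.app ch.V d) =
          f.appLE (ch.V ⊓ Q) (M ⊓ f ⁻¹ᵁ Q) e' (res (inf_le_left : ch.V ⊓ Q ≤ ch.V) d) := fun d => by
      show (f.app ch.V ≫ Z.presheaf.map _) d = (P.presheaf.map _ ≫ f.appLE _ _ e') d
      rw [Scheme.Hom.map_appLE]
      rfl
    have hi' : res (inf_le_left : M ⊓ f ⁻¹ᵁ Q ≤ M) (res i.le (res (inf_le_right : N' ≤ f ⁻¹ᵁ ch.V) (f.app ch.V (ch.num c)))) =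
        res (inf_le_left : M ⊓ f ⁻¹ᵁ Q ≤ M) (res i.le (res (inf_le_right : N' ≤ f ⁻¹ᵁ ch.V) (f.app ch.V ch.t) ^ ch.N *
          res (inf_le_left : N' ≤ N) r)) := by
      refine congrArg _ ?_
      rw [Subsingleton.elim i' i] at hi
      exact hi
    rw [res_res, res_res, map_mul, map_mul, map_pow, map_pow, res_res, res_res, res_res, res_res,
      key, key, ch.hnum c hc, map_mul, map_pow] at hi'
    rw [res_res]
    exact (((isUnit_res_t ch).map (f.appLE (ch.V ⊓ Q) (M ⊓ f ⁻¹ᵁ Q) e').hom).pow ch.N |>.mul_left_cancel hi').symm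
  · intro b
    refine ⟨f ⁻¹ᵁ ch.V, hz, le_rfl, f.app ch.V b, ?_⟩
    show (f.app ch.V ≫ Z.presheaf.map _) b =
      f.appLE (ch.V ⊓ Q) (f ⁻¹ᵁ ch.V ⊓ f ⁻¹ᵁ Q) (fun _ hx => ⟨hx.1, hx.2⟩)
        ((p.app ch.V ≫ sRes p s hs ch.V (ch.V ⊓ Q) inf_le_right inf_le_left) b)
    rw [app_sRes, ← ConcreteCategory.comp_apply, Scheme.Hom.map_appLE]
    rfl
  · intro c₁ c₂ _ _ h₁ h₂
    exact bin (fun a b => a + b) (fun φ a b => map_add φ a b) h₁ h₂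
  · intro c₁ c₂ _ _ h₁ h₂
    exact bin (fun a b => a * b) (fun φ a b => map_mul φ a b) h₁ h₂

/-- Divisible generators extend everything near the point. -/
theorem ext_at_of_dvd [IsAffineHom p] (z : Z) (hz : f z ∈ ch.V)
    (hG : ∀ c ∈ ch.G, germF f z hz ch.t ^ ch.N ∣ germF f z hz (ch.num c))
    (V : P.Opens) (hzV : f z ∈ V) (c : Γ(Y, p ⁻¹ᵁ V)) :
    ∃ (N : Z.Opens) (_ : z ∈ N) (hN : N ≤ f ⁻¹ᵁ V) (r : Γ(Z, N)),
      res (inf_le_left : N ⊓ f ⁻¹ᵁ Q ≤ N) r =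
        f.appLE (V ⊓ Q) (N ⊓ f ⁻¹ᵁ Q) (fun _ hx => ⟨hN hx.1, hx.2⟩)
          (sRes p s hs V (V ⊓ Q) inf_le_right inf_le_left c) := by
  obtain ⟨h, hh, hzh⟩ := ch.hV.exists_basicOpen_le (V := V) ⟨f z, hzV⟩ hz
  let D := P.basicOpen h
  have hDV : p ⁻¹ᵁ D = Y.basicOpen (p.app ch.V h) := Scheme.preimage_basicOpen p h
  haveI := (ch.hV.preimage p).isLocalization_basicOpen (p.app ch.V h)
  obtain ⟨k, c₀, hc₀⟩ := IsLocalization.Away.surj (p.app ch.V h) (res (hDV.ge.trans (p.preimage_mono hh)) c)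
  obtain ⟨N₀, hzN₀, hN₀, r₀, hr₀⟩ := extends_all ch z hz hG c₀
  let N := N₀ ⊓ f ⁻¹ᵁ D
  have hu : IsUnit (res (inf_le_right : N ≤ f ⁻¹ᵁ D) (f.app D (res (P.basicOpen_le h) h))) :=
    ((RingedSpace.isUnit_res_basicOpen P.toRingedSpace h).map (f.app D).hom).map _
  let u := res (inf_le_right : N ≤ f ⁻¹ᵁ D) (f.app D (res (P.basicOpen_le h) h))
  refine ⟨N, ⟨hzN₀, hzh⟩, fun x hx => hh hx.2,
    ↑((hu.pow k).unit⁻¹) * res (inf_le_left : N ≤ N₀) r₀, ?_⟩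
  let W := N ⊓ f ⁻¹ᵁ Q
  have hWu : IsUnit (res (inf_le_left : W ≤ N) u ^ k) := (hu.map _).pow k
  apply hWu.mul_left_cancel
  rw [map_mul, ← mul_assoc, ← map_pow, ← map_mul, IsUnit.mul_val_inv, map_one, one_mul, res_res]
  have e0 := congrArg (res (inf_le_inf_right _ inf_le_left : W ≤ N₀ ⊓ f ⁻¹ᵁ Q)) hr₀
  rw [res_res, res_appLE] at e0
  rw [e0, map_pow]
  -- compare on `D ⊓ Q`
  have eW : W ≤ f ⁻¹ᵁ (D ⊓ Q) := fun x hx => ⟨hx.1.2, hx.2⟩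
  have k1 : ∀ {A : P.Opens} (hA : D ≤ A) (e : W ≤ f ⁻¹ᵁ (A ⊓ Q)) (d : Γ(Y, p ⁻¹ᵁ A)),
      f.appLE (A ⊓ Q) W e (sRes p s hs A (A ⊓ Q) inf_le_right inf_le_left d) =
        f.appLE (D ⊓ Q) W eW (sRes p s hs A (D ⊓ Q) inf_le_right (inf_le_left.trans hA) d) := by
    intro A hA e d
    rw [← sRes_map p s hs A (A ⊓ Q) (D ⊓ Q) inf_le_right inf_le_left (inf_le_inf_right _ hA),
      ← ConcreteCategory.comp_apply, ← ConcreteCategory.comp_apply, Category.assoc,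
      Scheme.Hom.map_appLE]
  rw [k1 (P.basicOpen_le h) _ c₀, k1 hh _ c]
  have k2 : res (inf_le_left : W ≤ N) u =
      f.appLE (D ⊓ Q) W eW (res ((inf_le_left : D ⊓ Q ≤ D).trans (P.basicOpen_le h)) h) := by
    show res (inf_le_left : W ≤ N) (res _ (f.app D (res (P.basicOpen_le h) h))) = _
    rw [res_res]
    show (P.presheaf.map _ ≫ f.app D ≫ Z.presheaf.map _) h = (P.presheaf.map _ ≫ f.appLE _ _ eW) h
    rw [Scheme.Hom.app_eq_appLE, Scheme.Hom.appLE_map, Scheme.Hom.map_appLE, Scheme.Hom.map_appLE]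
  rw [k2, ← map_pow, ← map_mul]
  refine congrArg _ ?_
  -- the identity in `Γ(P, D ⊓ Q)`
  let Φ := sRes p s hs D (D ⊓ Q) inf_le_right inf_le_left
  have p1 : ∀ {A : P.Opens} (hA : D ≤ A) (d : Γ(Y, p ⁻¹ᵁ A)),
      sRes p s hs A (D ⊓ Q) inf_le_right (inf_le_left.trans hA) d = Φ (res (p.preimage_mono hA) d) := by
    intro A hA d
    rw [← map_sRes p s hs A D (D ⊓ Q) inf_le_right inf_le_left hA]
    rfl
  rw [p1 (P.basicOpen_le h) c₀, p1 hh c]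
  have p2 : res ((inf_le_left : D ⊓ Q ≤ D).trans (P.basicOpen_le h)) h =
      Φ (res (p.preimage_mono (P.basicOpen_le h)) (p.app ch.V h)) := by
    rw [← p1 (P.basicOpen_le h)]
    show _ = (p.app ch.V ≫ sRes p s hs ch.V (D ⊓ Q) inf_le_right (inf_le_left.trans (P.basicOpen_le h))) h
    rw [app_sRes]
  rw [p2, ← map_pow, ← map_mul]
  refine congrArg _ ?_
  have hc' := congrArg (res hDV.le) hc₀
  rw [map_mul, map_pow] at hc'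
  refine Eq.trans ?_ (hc'.symm.trans ?_)
  · exact (res_res _ _ c₀).symm
  · rw [mul_comm, res_res]
    refine congrArg₂ (· * ·) (congrArg (· ^ k) ?_) rfl
    exact res_res _ _ _

end Groth.Agent.ExtPred28
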