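import Groth.Agent.SDiv28.RelDiv
import Groth.Agent.SDiv28.BlowUp
import Groth.Agent.EGA43.InjFibre.Scheme
import Mathlib

/-!
# A relative effective Cartier divisor stays effective Cartier after base change
-/

set_option autoImplicit false
set_option backward.isDefEq.respectTransparency false
set_option linter.style.haveILetI false

universe u

open CategoryTheory CategoryTheory.Limits AlgebraicGeometry Opposite TopologicalSpace TensorProduct
open Groth.Agent

namespace Groth.Agent.ExtPred28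

set_option maxHeartbeats 2000000 in
/-- A nonzerodivisor with flat quotient stays a nonzerodivisor after base change. -/
theorem isPushout_mem_nonZeroDivisors {A B R W : Type u} [CommRing A] [CommRing B] [CommRing R] [CommRing W]
    [Algebra A B] [Algebra A R] [Algebra B W] [Algebra R W] [Algebra A W] [IsScalarTower A B W]
    [IsScalarTower A R W] [Algebra.IsPushout A B R W] {t : B} (ht : t ∈ nonZeroDivisors B)
    [Module.Flat A (B ⧸ Ideal.span {t})] : algebraMap B W t ∈ nonZeroDivisors W := by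
  let m : B →ₗ[A] B := (LinearMap.mulLeft A t)
  let q : B →ₗ[A] B ⧸ Ideal.span {t} := ((Ideal.span {t}).mkQ).restrictScalars A
  have hm : Function.Injective m := fun a b h => (isRegular_iff_mem_nonZeroDivisors.2 ht).1 h
  have hex : Function.Exact m q := fun x => by
    show Ideal.Quotient.mk _ x = 0 ↔ _
    rw [Ideal.Quotient.eq_zero_iff_mem, Ideal.mem_span_singleton']
    exact ⟨fun ⟨a, ha⟩ => ⟨a, (mul_comm t a).trans ha⟩, fun ⟨a, ha⟩ => ⟨a, (mul_comm a t).trans ha⟩⟩
  have hinj := LinearMap.lTensor_injective_of_exact_of_flat q (Submodule.mkQ_surjective _) m hm hex R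
  haveI : Algebra.IsPushout A R B W := Algebra.IsPushout.symm inferInstance
  let e := Algebra.IsPushout.equiv A R B W
  have he : ∀ z : R ⊗[A] B, e (m.lTensor R z) = algebraMap B W t * e z := fun z => by
    induction z using TensorProduct.induction_on with
    | zero => simp
    | tmul r b =>
      rw [LinearMap.lTensor_tmul, Algebra.IsPushout.equiv_tmul, Algebra.IsPushout.equiv_tmul]
      show algebraMap R W r * algebraMap B W (t * b) = _
      rw [map_mul]
      ring
    | add x y hx hy => rw [map_add, map_add, map_add, hx, hy, mul_add]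
  rw [mem_nonZeroDivisors_iff_right]
  intro w hw
  obtain ⟨z, rfl⟩ := e.surjective w
  rw [mul_comm, ← he, ← map_zero e] at hw
  rw [hinj ((e.injective hw).trans (map_zero (m.lTensor R)).symm), map_zero]

variable {P S : Scheme.{u}}

theorem isEffCartier_comap_fst {I : P.IdealSheafData} (hI : BlowUp.IsEffCartierIdeal I) (π : P ⟶ S)
    [Flat (I.subschemeι ≫ π)] {T : Scheme.{u}} (g : T ⟶ S) :
    BlowUp.IsEffCartierIdeal (I.comap (pullback.fst π g)) := by
  intro x
  obtain ⟨_, ⟨O, hO, rfl⟩, hxO, -⟩ := S.isBasis_affineOpens.exists_subset_of_mem_open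
    (Set.mem_univ (π (pullback.fst π g x))) isOpen_univ
  obtain ⟨U, hxU, hUO, t, ht, htI⟩ := ModPairLib.exists_local hI (pullback.fst π g x) (π ⁻¹ᵁ O) hxO
  have hgx : pullback.snd π g x ∈ g ⁻¹ᵁ O := by
    show g (pullback.snd π g x) ∈ O
    rw [← Scheme.Hom.comp_apply, ← pullback.condition]
    exact hxO
  obtain ⟨T', hT', hxT', eT'⟩ := exists_isAffineOpen_mem_and_subset (U := g ⁻¹ᵁ O) hgx
  let H := IsPullback.of_hasPullback π g
  let W := pullback.fst π g ⁻¹ᵁ U.1 ⊓ pullback.snd π g ⁻¹ᵁ T'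
  have hW : IsAffineOpen W := EGA43.InjFibre.isAffineOpen_inf_preimage H hO U.2 hT' hUO eT'
  have eW : W ≤ pullback.fst π g ⁻¹ᵁ U.1 := inf_le_left
  have eW' : W ≤ pullback.snd π g ⁻¹ᵁ T' := inf_le_right
  have hp := (isIso_pushoutSection_iff H eT' hUO (rfl : W = _)).1
    (isIso_pushoutSection_of_isAffineOpen H eT' hUO rfl hO hT' U.2)
  refine ⟨⟨W, hW⟩, ⟨hxU, hxT'⟩, (pullback.fst π g).appLE U.1 W eW t, ?_, ?_⟩
  · have hflat := SDiv28.flat_quot_of_flat I π (U := ⟨O, hO⟩) (V := U) hUO
    rw [htI] at hflat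
    let _ := (π.appLE O U.1 hUO).hom.toAlgebra
    let _ := (g.appLE O T' eT').hom.toAlgebra
    let _ := ((pullback.fst π g).appLE U.1 W eW).hom.toAlgebra
    let _ := ((pullback.snd π g).appLE T' W eW').hom.toAlgebra
    let _ : Algebra Γ(S, O) Γ(pullback π g, W) :=
      (((pullback.fst π g).appLE U.1 W eW).hom.comp (π.appLE O U.1 hUO).hom).toAlgebra
    have : IsScalarTower Γ(S, O) Γ(P, U.1) Γ(pullback π g, W) := .of_algebraMap_eq fun _ => rfl
    have : IsScalarTower Γ(S, O) Γ(T, T') Γ(pullback π g, W) :=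
      .of_algebraMap_eq fun r => ConcreteCategory.congr_hom hp.w r
    have : Algebra.IsPushout Γ(S, O) Γ(P, U.1) Γ(T, T') Γ(pullback π g, W) :=
      CommRingCat.isPushout_iff_isPushout.1 hp
    have : Module.Flat Γ(S, O) (Γ(P, U.1) ⧸ Ideal.span {t}) := by
      have e : algebraMap Γ(S, O) (Γ(P, U.1) ⧸ Ideal.span {t}) =
          (Ideal.Quotient.mk (Ideal.span {t})).comp (π.appLE O U.1 hUO).hom := rfl
      exact RingHom.flat_algebraMap_iff.1 (e ▸ hflat)
    exact isPushout_mem_nonZeroDivisors (A := Γ(S, O)) (R := Γ(T, T')) ht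
  · rw [ProjLib.comap_ideal_eq I (pullback.fst π g) U ⟨W, hW⟩ eW, htI, Ideal.map_span, Set.image_singleton]

theorem isDenseOpen_of_flat {I : P.IdealSheafData} (hI : BlowUp.IsEffCartierIdeal I) (π : P ⟶ S)
    [Flat (I.subschemeι ≫ π)] {T : Scheme.{u}} (g : T ⟶ S) {Z : Scheme.{u}} (d : Z ⟶ pullback π g)
    [Flat d] (f : Z ⟶ P) (hf : d ≫ pullback.fst π g = f) :
    ModPairLib.IsDenseOpen (f ⁻¹ᵁ ModPair.interior I) := by
  subst hf
  refine (ModPairLib.isEffCartier_comap_iff hI (d ≫ pullback.fst π g)).1 ?_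
  rw [Scheme.IdealSheafData.comap_comp]
  exact SDiv28.isEffCartier_comap_of_flat (isEffCartier_comap_fst hI π g) d

end Groth.Agent.ExtPred28
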