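import Groth.Agent.ExtPred28.Pred
import Groth.Agent.SDiv28.RegPairExtend

/-!
# The extension predicate gives a section over the base change
-/

set_option autoImplicit false
set_option backward.isDefEq.respectTransparency false
set_option linter.style.haveILetI false
set_option maxHeartbeats 1000000

universe u

open CategoryTheory CategoryTheory.Limits AlgebraicGeometry Opposite TopologicalSpace
open Groth.Agent
open Groth.Agent.FlatMor12.RegularExtend (res res_res)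

namespace Groth.Agent.ExtPred28

variable {P Y Z : Scheme.{u}} (p : Y ⟶ P) {Q : P.Opens} (s : Q.toScheme ⟶ Y) (hs : s ≫ p = Q.ι)
  (f : Z ⟶ P)

/-- The pulled back partial section on functions. -/
theorem appLE_restrict_comp (V : P.Opens) (W : Z.Opens) (eV : W ≤ f ⁻¹ᵁ V) (eQ : W ≤ f ⁻¹ᵁ Q)
    (e : (f ⁻¹ᵁ Q).ι ⁻¹ᵁ W ≤ ((f ∣_ Q) ≫ s) ⁻¹ᵁ (p ⁻¹ᵁ V)) :
    ((f ∣_ Q) ≫ s).appLE (p ⁻¹ᵁ V) ((f ⁻¹ᵁ Q).ι ⁻¹ᵁ W) e =
      sRes p s hs V (V ⊓ Q) inf_le_right inf_le_left ≫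
        f.appLE (V ⊓ Q) W (fun _ hx => ⟨eV hx, eQ hx⟩) ≫ (f ⁻¹ᵁ Q).ι.appLE W _ le_rfl := by
  have e' : (f ⁻¹ᵁ Q).ι ⁻¹ᵁ W ≤ (f ∣_ Q) ⁻¹ᵁ (Q.ι ⁻¹ᵁ (V ⊓ Q)) := fun x hx => by
    show Q.ι ((f ∣_ Q) x) ∈ V ⊓ Q
    rw [← Scheme.Hom.comp_apply, morphismRestrict_ι, Scheme.Hom.comp_apply]
    exact ⟨eV hx, eQ hx⟩
  rw [← Scheme.Hom.appLE_comp_appLE (f ∣_ Q) s (p ⁻¹ᵁ V) (Q.ι ⁻¹ᵁ (V ⊓ Q)) _
    (preimage_le p s hs inf_le_left) e', morphismRestrict_appLE, Scheme.Opens.ι_appLE, sRes,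
    Category.assoc, Scheme.Hom.appLE_map, Scheme.Hom.map_appLE]

theorem ext_of_section (h : Z ⟶ Y) (hp : h ≫ p = f) (hh : (f ⁻¹ᵁ Q).ι ≫ h = (f ∣_ Q) ≫ s) :
    Ext p s hs f := by
  intro z V hzV c
  have eh : f ⁻¹ᵁ V ≤ h ⁻¹ᵁ (p ⁻¹ᵁ V) := le_of_eq (by rw [← hp]; rfl)
  refine ⟨f ⁻¹ᵁ V, hzV, le_rfl, h.appLE (p ⁻¹ᵁ V) (f ⁻¹ᵁ V) eh c, ?_⟩
  let W := f ⁻¹ᵁ V ⊓ f ⁻¹ᵁ Q
  let W' := (f ⁻¹ᵁ Q).ι ⁻¹ᵁ W
  have e0 : W' ≤ ((f ⁻¹ᵁ Q).ι ≫ h) ⁻¹ᵁ (p ⁻¹ᵁ V) := fun x hx => eh hx.1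
  have e1 : W' ≤ ((f ∣_ Q) ≫ s) ⁻¹ᵁ (p ⁻¹ᵁ V) := hh ▸ e0
  have key : ((f ⁻¹ᵁ Q).ι ≫ h).appLE (p ⁻¹ᵁ V) W' e0 = ((f ∣_ Q) ≫ s).appLE (p ⁻¹ᵁ V) W' e1 := by
    simp only [hh]
  rw [appLE_restrict_comp p s hs f V W inf_le_left inf_le_right e1,
    ← Scheme.Hom.appLE_comp_appLE (f ⁻¹ᵁ Q).ι h (p ⁻¹ᵁ V) W W' (inf_le_left.trans eh) le_rfl,
    Scheme.Opens.ι_appLE] at key
  have key' := congrArg (· ≫ Z.presheaf.map (homOfLE (le_image (Q := f ⁻¹ᵁ Q) (O := W) inf_le_right)).op) key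
  simp only [Category.assoc, Scheme.Hom.appLE_map, Scheme.Hom.appLE_map_assoc] at key'
  show (h.appLE (p ⁻¹ᵁ V) (f ⁻¹ᵁ V) eh ≫ Z.presheaf.map _) c = _
  rw [Scheme.Hom.appLE_map, key']
  rfl

variable [IsAffineHom p]

theorem exists_section_of_ext (hdense : ModPairLib.IsDenseOpen (f ⁻¹ᵁ Q)) [IsAffineHom (f ⁻¹ᵁ Q).ι]
    (hE : Ext p s hs f) :
    ∃ h : Z ⟶ Y, h ≫ p = f ∧ (f ⁻¹ᵁ Q).ι ≫ h = (f ∣_ Q) ≫ s := by
  classical
  let Q' := f ⁻¹ᵁ Q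
  let val : ∀ (V : P.Opens) (N : Z.Opens), N ≤ f ⁻¹ᵁ V → Γ(Y, p ⁻¹ᵁ V) →+* Γ(Z, Q' ⊓ N) := fun V N e =>
    (sRes p s hs V (V ⊓ Q) inf_le_right inf_le_left ≫
      f.appLE (V ⊓ Q) (Q' ⊓ N) (fun _ hx => ⟨e hx.2, hx.1⟩)).hom
  have hex : ∀ (V : P.Opens) (N : Z.Opens) (e : N ≤ f ⁻¹ᵁ V) (c : Γ(Y, p ⁻¹ᵁ V)),
      ∃ t : Γ(Z, N), res (inf_le_right : Q' ⊓ N ≤ N) t = val V N e c := fun V N e c => by
    obtain ⟨t, ht⟩ := SDiv28.RegPairExtend.exists_glue hdense (V := N) (val V N e c) N le_rfl fun x hx => by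
      obtain ⟨M, hxM, hM, r, hr⟩ := hE x V (e hx) c
      refine ⟨M ⊓ N, inf_le_right, ⟨hxM, hx⟩, res inf_le_left r, ?_⟩
      have hle : Q' ⊓ (M ⊓ N) ≤ M ⊓ Q' := fun y hy => ⟨hy.2.1, hy.1⟩
      have h1 := congrArg (res hle) hr
      rw [res_res, res_appLE] at h1
      rw [res_res, h1]
      exact (res_appLE _ _ _).symm
    refine ⟨t, ht.trans ?_⟩
    show (Z.presheaf.map _) _ = _
    rw [show (homOfLE (inf_le_inf le_rfl le_rfl : Q' ⊓ N ≤ Q' ⊓ N)).op = 𝟙 _ from Subsingleton.elim _ _,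
      Z.presheaf.map_id]
    rfl
  choose χ hχ using hex
  have huniq : ∀ (V : P.Opens) (N : Z.Opens) (e : N ≤ f ⁻¹ᵁ V) (c : Γ(Y, p ⁻¹ᵁ V)) (t : Γ(Z, N)),
      res (inf_le_right : Q' ⊓ N ≤ N) t = val V N e c → t = χ V N e c := fun V N e c t h =>
    SDiv28.RegPairExtend.res_injective hdense (h.trans (hχ V N e c).symm)
  let χh : ∀ (V : P.Opens) (N : Z.Opens), N ≤ f ⁻¹ᵁ V → (Γ(Y, p ⁻¹ᵁ V) ⟶ Γ(Z, N)) := fun V N e =>
    CommRingCat.ofHom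
      { toFun := χ V N e
        map_one' := (huniq V N e _ _ (by rw [map_one, map_one])).symm
        map_zero' := (huniq V N e _ _ (by rw [map_zero, map_zero])).symm
        map_add' := fun a b => (huniq V N e _ _ (by rw [map_add, map_add, hχ, hχ])).symm
        map_mul' := fun a b => (huniq V N e _ _ (by rw [map_mul, map_mul, hχ, hχ])).symm }
  have hnat : ∀ (V V' : P.Opens) (N N' : Z.Opens) (e : N ≤ f ⁻¹ᵁ V) (e' : N' ≤ f ⁻¹ᵁ V')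
      (hV : V' ≤ V) (hN : N' ≤ N), χh V N e ≫ Z.presheaf.map (homOfLE hN).op =
        Y.presheaf.map (homOfLE (p.preimage_mono hV)).op ≫ χh V' N' e' := by
    intro V V' N N' e e' hV hN
    refine CommRingCat.hom_ext (RingHom.ext fun c => ?_)
    refine huniq V' N' e' _ _ ?_
    show res (inf_le_right : Q' ⊓ N' ≤ N') (res hN (χ V N e c)) = _
    rw [res_res, ← res_res (inf_le_right : Q' ⊓ N ≤ N) (inf_le_inf_left Q' hN), hχ]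
    show res _ (f.appLE (V ⊓ Q) _ _ (sRes p s hs V (V ⊓ Q) _ _ c)) = _
    rw [res_appLE]
    show (sRes p s hs V (V ⊓ Q) inf_le_right inf_le_left ≫ f.appLE (V ⊓ Q) _ _) c =
      (Y.presheaf.map _ ≫ sRes p s hs V' (V' ⊓ Q) inf_le_right inf_le_left ≫ f.appLE (V' ⊓ Q) _ _) c
    rw [← Category.assoc, map_sRes, ← sRes_map p s hs V (V ⊓ Q) (V' ⊓ Q) inf_le_right inf_le_left
      (inf_le_inf_right _ hV), Category.assoc, Scheme.Hom.map_appLE]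
    exact hV
  have hpχ : ∀ (V : P.Opens) (N : Z.Opens) (e : N ≤ f ⁻¹ᵁ V), p.app V ≫ χh V N e = f.appLE V N e := by
    intro V N e
    refine CommRingCat.hom_ext (RingHom.ext fun b => ?_)
    refine (huniq V N e (p.app V b) (f.appLE V N e b) ?_).symm
    rw [res_appLE]
    show _ = (p.app V ≫ sRes p s hs V (V ⊓ Q) inf_le_right inf_le_left ≫ f.appLE (V ⊓ Q) _ _) b
    rw [← Category.assoc, app_sRes, Scheme.Hom.map_appLE]
  -- the cover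
  have hcov : ∀ x : Z, ∃ (V : P.Opens) (N : Z.Opens), IsAffineOpen V ∧ IsAffineOpen N ∧ x ∈ N ∧ N ≤ f ⁻¹ᵁ V := by
    intro x
    obtain ⟨V, hV, hxV, -⟩ := exists_isAffineOpen_mem_and_subset (U := ⊤) (x := f x) trivial
    obtain ⟨N, hN, hxN, e⟩ := exists_isAffineOpen_mem_and_subset (U := f ⁻¹ᵁ V) hxV
    exact ⟨V, N, hV, hN, hxN, e⟩
  choose V N hV hN hxN e using hcov
  let ν : ∀ x : Z, Spec Γ(Z, N x) ⟶ Y := fun x =>
    Spec.map (χh (V x) (N x) (e x)) ≫ ((hV x).preimage p).fromSpec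
  let 𝒰 : Z.OpenCover := Scheme.Cover.mkOfCovers Z (fun x => Spec Γ(Z, N x)) (fun x => (hN x).fromSpec)
    (fun x => ⟨x, (hN x).range_fromSpec.superset (hxN x)⟩)
  have hcompat : ∀ x y : Z, pullback.fst (hN x).fromSpec (hN y).fromSpec ≫ ν x =
      pullback.snd (hN x).fromSpec (hN y).fromSpec ≫ ν y := by
    intro x y
    let W := pullback (hN x).fromSpec (hN y).fromSpec
    let π := pullback.fst (hN x).fromSpec (hN y).fromSpec ≫ (hN x).fromSpec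
    have hπ : π = pullback.snd (hN x).fromSpec (hN y).fromSpec ≫ (hN y).fromSpec := pullback.condition
    have hmem : ∀ w : W, π w ∈ N x ⊓ N y := fun w => by
      constructor
      · exact (hN x).range_fromSpec.subset ⟨_, rfl⟩
      · rw [hπ]; exact (hN y).range_fromSpec.subset ⟨_, rfl⟩
    have hloc : ∀ w : W, ∃ (A : P.Opens) (M : Z.Opens), IsAffineOpen A ∧ IsAffineOpen M ∧
        A ≤ V x ⊓ V y ∧ M ≤ N x ⊓ N y ∧ π w ∈ M ∧ M ≤ f ⁻¹ᵁ A := fun w => by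
      obtain ⟨A, hA, hwA, hAle⟩ := exists_isAffineOpen_mem_and_subset (U := V x ⊓ V y)
        (x := f (π w)) ⟨e x (hmem w).1, e y (hmem w).2⟩
      obtain ⟨M, hM, hwM, hMle⟩ := exists_isAffineOpen_mem_and_subset (U := (N x ⊓ N y) ⊓ f ⁻¹ᵁ A)
        (x := π w) ⟨hmem w, hwA⟩
      exact ⟨A, M, hA, hM, hAle, fun a ha => (hMle ha).1, hwM, fun a ha => (hMle ha).2⟩
    choose A M hA hM hAle hMle hwM eM using hloc
    let 𝒲 := W.openCoverOfIsOpenCover (fun w => π ⁻¹ᵁ M w)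
      (.mk (top_le_iff.1 fun w _ => Opens.mem_iSup.2 ⟨w, hwM w⟩))
    refine 𝒲.hom_ext _ _ fun w => ?_
    let l : (π ⁻¹ᵁ M w).toScheme ⟶ Spec Γ(Z, M w) := IsOpenImmersion.lift (hM w).fromSpec
      ((π ⁻¹ᵁ M w).ι ≫ π) (by rw [(hM w).range_fromSpec]; rintro _ ⟨a, rfl⟩; exact a.2)
    have hl : l ≫ (hM w).fromSpec = (π ⁻¹ᵁ M w).ι ≫ π := IsOpenImmersion.lift_fac _ _ _
    have side : ∀ (u : Z) (k : W ⟶ Spec Γ(Z, N u)) (_ : k ≫ (hN u).fromSpec = π) (hMu : M w ≤ N u)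
        (hAu : A w ≤ V u), (π ⁻¹ᵁ M w).ι ≫ k ≫ ν u =
          l ≫ Spec.map (χh (A w) (M w) (eM w)) ≫ ((hA w).preimage p).fromSpec := by
      intro u k hk hMu hAu
      have h1 : (π ⁻¹ᵁ M w).ι ≫ k = l ≫ Spec.map (Z.presheaf.map (homOfLE hMu).op) := by
        rw [← cancel_mono (hN u).fromSpec, Category.assoc, Category.assoc, hk,
          (hN u).map_fromSpec (hM w), hl]
      rw [reassoc_of% h1]
      show l ≫ Spec.map _ ≫ Spec.map _ ≫ _ = _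
      rw [← Spec.map_comp_assoc, hnat (V u) (A w) (N u) (M w) (e u) (eM w) hAu hMu, Spec.map_comp_assoc,
        ((hV u).preimage p).map_fromSpec ((hA w).preimage p)]
    show (π ⁻¹ᵁ M w).ι ≫ _ = (π ⁻¹ᵁ M w).ι ≫ _
    rw [side x _ rfl (fun a ha => (hMle w ha).1) (fun a ha => (hAle w ha).1),
      side y _ hπ.symm (fun a ha => (hMle w ha).2) (fun a ha => (hAle w ha).2)]
  let h : Z ⟶ Y := 𝒰.glueMorphisms ν hcompat
  have hh : ∀ x, (hN x).fromSpec ≫ h = ν x := fun x => 𝒰.ι_glueMorphisms ν hcompat x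
  refine ⟨h, 𝒰.hom_ext _ _ fun x => ?_, ?_⟩
  · show (hN x).fromSpec ≫ h ≫ p = (hN x).fromSpec ≫ f
    rw [reassoc_of% (hh x)]
    show Spec.map _ ≫ ((hV x).preimage p).fromSpec ≫ p = _
    rw [← (hV x).SpecMap_appLE_fromSpec p ((hV x).preimage p) le_rfl, ← Scheme.Hom.app_eq_appLE,
      ← Spec.map_comp_assoc, hpχ, (hV x).SpecMap_appLE_fromSpec f (hN x) (e x)]
  · -- the restriction
    let 𝒬 := Q'.toScheme.openCoverOfIsOpenCover (fun x : Z => Q'.ι ⁻¹ᵁ N x)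
      (.mk (top_le_iff.1 fun q _ => Opens.mem_iSup.2 ⟨Q'.ι q, hxN _⟩))
    refine 𝒬.hom_ext _ _ fun x => ?_
    let O' := Q'.ι ⁻¹ᵁ N x
    have hO' : IsAffineOpen O' := (hN x).preimage Q'.ι
    show O'.ι ≫ _ = O'.ι ≫ _
    rw [← cancel_epi hO'.isoSpec.inv, hO'.isoSpec_inv_ι_assoc, hO'.isoSpec_inv_ι_assoc,
      ← Category.assoc, ← (hN x).SpecMap_appLE_fromSpec Q'.ι hO' le_rfl, Category.assoc, hh]
    let F := (f ∣_ Q) ≫ s
    have eF : O' ≤ F ⁻¹ᵁ (p ⁻¹ᵁ V x) := fun q hq => by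
      show p (s ((f ∣_ Q) q)) ∈ V x
      rw [← Scheme.Hom.comp_apply s, hs, ← Scheme.Hom.comp_apply, morphismRestrict_ι, Scheme.Hom.comp_apply]
      exact e x hq
    rw [← ((hV x).preimage p).SpecMap_appLE_fromSpec F hO' eF]
    show Spec.map _ ≫ Spec.map _ ≫ _ = _
    rw [← Spec.map_comp_assoc]
    refine congrArg (fun a => Spec.map a ≫ _) ?_
    let W := Q' ⊓ N x
    have hW : Q'.ι ⁻¹ᵁ W = O' := by ext q; exact ⟨fun h => h.2, fun h => ⟨q.2, h⟩⟩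
    have key := appLE_restrict_comp p s hs f (V x) W (inf_le_right.trans (e x)) inf_le_left
      (hW.trans_le eF)
    have h1 : χh (V x) (N x) (e x) ≫ Z.presheaf.map (homOfLE (inf_le_right : W ≤ N x)).op =
        sRes p s hs (V x) (V x ⊓ Q) inf_le_right inf_le_left ≫
          f.appLE (V x ⊓ Q) W (fun _ hy => ⟨e x hy.2, hy.1⟩) :=
      CommRingCat.hom_ext (RingHom.ext fun c => hχ (V x) (N x) (e x) c)
    rw [← reassoc_of% h1, Scheme.Hom.map_appLE] at key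
    have gen : ∀ (O'' : Q'.toScheme.Opens) (_ : Q'.ι ⁻¹ᵁ W = O'') (e1 : O'' ≤ Q'.ι ⁻¹ᵁ N x)
        (e2 : O'' ≤ F ⁻¹ᵁ (p ⁻¹ᵁ V x)),
        χh (V x) (N x) (e x) ≫ Q'.ι.appLE (N x) O'' e1 = F.appLE (p ⁻¹ᵁ V x) O'' e2 := by
      rintro _ rfl _ _
      exact key.symm
    exact gen O' hW _ _

end Groth.Agent.ExtPred28
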