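import Groth.Agent.ExtPred28.Basic
import Groth.Agent.ExtPred28.Cartier
import Groth.Agent.VanishAbs28.Locus

/-!
# Extension over a Cartier complement is cut out by vanishing of elements in flat modules
-/

set_option autoImplicit false
set_option backward.isDefEq.respectTransparency false
set_option linter.style.haveILetI false
set_option maxHeartbeats 1000000

universe u

open CategoryTheory CategoryTheory.Limits AlgebraicGeometry Opposite TopologicalSpace TensorProduct
open Groth.Agent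
open Groth.Agent.FlatMor12.RegularExtend (res res_res)

namespace Groth.Agent.ExtPred28

variable {P Y S : Scheme.{u}} (π : P ⟶ S) (p : Y ⟶ P) [IsAffineHom p] [LocallyOfFiniteType p]
  {I : P.IdealSheafData} (s : (ModPair.interior I).toScheme ⟶ Y) (hs : s ≫ p = (ModPair.interior I).ι)

/-- Charts exist near every point. -/
theorem exists_chart (hI : BlowUp.IsEffCartierIdeal I) (y : P) (O : P.Opens) (hy : y ∈ O) :
    ∃ ch : Chart p s hs, y ∈ ch.V ∧ ch.V ≤ O ∧ ch.t ∈ nonZeroDivisors Γ(P, ch.V) ∧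
      I.ideal ⟨ch.V, ch.hV⟩ = Ideal.span {ch.t} := by
  classical
  obtain ⟨⟨V, hV⟩, hyV, hVO, t, ht, htI⟩ := ModPairLib.exists_local hI y O hy
  have hft : (p.app V).hom.FiniteType := by
    rw [p.app_eq_appLE]
    exact p.finiteType_appLE hV (hV.preimage p) le_rfl
  let _ := (p.app V).hom.toAlgebra
  have : Algebra.FiniteType Γ(P, V) Γ(Y, p ⁻¹ᵁ V) := hft
  obtain ⟨G, hG⟩ := this.out
  have hVQ : V ⊓ ModPair.interior I = P.basicOpen t := ModPairLib.inf_interior (U := ⟨V, hV⟩) htI
  have hnum : ∀ c : Γ(Y, p ⁻¹ᵁ V), ∃ (n : ℕ) (b : Γ(P, V)),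
      res (inf_le_left : V ⊓ ModPair.interior I ≤ V) b =
        res (inf_le_left : V ⊓ ModPair.interior I ≤ V) t ^ n *
          sRes p s hs V (V ⊓ ModPair.interior I) inf_le_right inf_le_left c := fun c => by
    haveI := hV.isLocalization_basicOpen t
    obtain ⟨n, b, hb⟩ := IsLocalization.Away.surj t
      (res hVQ.ge (sRes p s hs V (V ⊓ ModPair.interior I) inf_le_right inf_le_left c))
    refine ⟨n, b, ?_⟩
    have h := congrArg (res hVQ.le) hb
    rw [map_mul, map_pow, res_res] at h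
    change _ = res hVQ.le (res (P.basicOpen_le t) b) at h
    rw [res_res] at h
    rw [← h, mul_comm]
    refine congrArg₂ (· * ·) (congrArg (· ^ n) ?_) ?_
    · exact res_res (P.basicOpen_le t) hVQ.le t
    · show (P.presheaf.map _) _ = _
      rw [show (homOfLE (hVQ.le.trans hVQ.ge : V ⊓ ModPair.interior I ≤ V ⊓ ModPair.interior I)).op = 𝟙 _ from
        Subsingleton.elim _ _, P.presheaf.map_id]
      rfl
  choose n b hb using hnum
  refine ⟨⟨V, hV, t, hVQ, G, hG, G.sup n, fun c => t ^ (G.sup n - n c) * b c, fun c hc => ?_⟩,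
    hyV, hVO, ht, htI⟩
  rw [map_mul, map_pow, hb, ← mul_assoc, ← pow_add, Nat.sub_add_cancel (Finset.le_sup (f := n) hc)]

theorem germ_appLE {Z : Scheme.{u}} (f : Z ⟶ P) {V : P.Opens} {W : Z.Opens} (e : W ≤ f ⁻¹ᵁ V)
    (z : Z) (hz : z ∈ W) (b : Γ(P, V)) :
    Z.presheaf.germ W z hz (f.appLE V W e b) = germF f z (e hz) b :=
  TopCat.Presheaf.germ_res_apply _ _ _ _ _

/-- Flatness over the base of the truncations of a chart. -/
theorem flat_quot_pow [Flat (I.subschemeι ≫ π)] {W : S.Opens} (hW : IsAffineOpen W) {V : P.Opens}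
    (hV : IsAffineOpen V) (e : V ≤ π ⁻¹ᵁ W) {t : Γ(P, V)} (ht : t ∈ nonZeroDivisors Γ(P, V))
    (htI : I.ideal ⟨V, hV⟩ = Ideal.span {t}) (n : ℕ) :
    ((Ideal.Quotient.mk (Ideal.span {t ^ n})).comp (π.appLE W V e).hom).Flat := by
  induction n with
  | zero =>
    haveI : Subsingleton (Γ(P, V) ⧸ Ideal.span {t ^ 0}) :=
      Ideal.Quotient.subsingleton_iff.2 (by simp)
    let _ := ((Ideal.Quotient.mk (Ideal.span {t ^ 0})).comp (π.appLE W V e).hom).toAlgebra
    exact RingHom.flat_algebraMap_iff.2 (inferInstance : Module.Flat Γ(S, W) (Γ(P, V) ⧸ Ideal.span {t ^ 0}))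
  | succ n ih =>
    have h1 := SDiv28.flat_quot_of_flat I π (U := ⟨W, hW⟩) (V := ⟨V, hV⟩) e
    rw [htI] at h1
    have h2 := (SDiv28.flat_quot_mul (π.appLE W V e).hom (b := t ^ n) ht).1 h1 ih
    rwa [← pow_succ'] at h2

variable (hI : BlowUp.IsEffCartierIdeal I) [Flat (I.subschemeι ≫ π)]

include hI in
theorem ext_of_cover {T : Scheme.{u}} (g : T ⟶ S) {ι : Type u} (Z : ι → Scheme.{u})
    (c : ∀ i, Z i ⟶ pullback π g) (hc : ∀ i, Flat (c i)) (hsurj : ∀ x, ∃ (i : ι) (z : Z i), c i z = x)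
    (h : ∀ i, Ext p s hs (c i ≫ pullback.fst π g)) : Ext p s hs (pullback.fst π g) := by
  intro x V hxV c₀
  obtain ⟨ch, hy, -, -, -⟩ := exists_chart p s hs hI (pullback.fst π g x) ⊤ trivial
  refine ext_at_of_dvd ch x hy (fun a ha => ?_) V hxV c₀
  obtain ⟨i, z, rfl⟩ := hsurj x
  have := hc i
  have hd := dvd_of_ext ch (isDenseOpen_of_flat hI π g (c i) _ rfl) (h i) z hy ha
  let φ := ((c i).stalkMap z).hom
  have key : ∀ b : Γ(P, ch.V), germF (c i ≫ pullback.fst π g) z hy b =
      φ (germF (pullback.fst π g) (c i z) hy b) := fun b => by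
    show (Z i).presheaf.germ _ z _ ((c i).app _ ((pullback.fst π g).app _ b)) = _
    exact ((c i).germ_stalkMap_apply _ z hy _).symm
  rw [key, key, ← map_pow] at hd
  let _ := φ.toAlgebra
  have : Module.Flat ((pullback π g).presheaf.stalk (c i z)) ((Z i).presheaf.stalk z) :=
    Flat.stalkMap (c i) z
  have : IsLocalHom (algebraMap ((pullback π g).presheaf.stalk (c i z)) ((Z i).presheaf.stalk z)) :=
    inferInstanceAs (IsLocalHom ((c i).stalkMap z).hom)
  have := Module.FaithfullyFlat.of_flat_of_isLocalHom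
    (A := (pullback π g).presheaf.stalk (c i z)) (B := (Z i).presheaf.stalk z)
  rw [← Ideal.mem_span_singleton] at hd ⊢
  rw [← Ideal.comap_map_eq_self_of_faithfullyFlat (B := (Z i).presheaf.stalk z)
    (Ideal.span {germF (pullback.fst π g) (c i z) hy ch.t ^ ch.N}), Ideal.mem_comap, Ideal.map_span,
    Set.image_singleton]
  exact hd

include hI in
theorem ext_iff_vanish {W : S.Opens} (ch : Chart p s hs) (C : CommRingCat.{u}) (φ : Γ(P, ch.V) ⟶ C)
    (hgood : VanishAbs28.Good π (Spec.map φ ≫ ch.hV.fromSpec)) :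
    Ext p s hs (Spec.map φ ≫ ch.hV.fromSpec) ↔ ∀ c ∈ ch.G, φ.hom ch.t ^ ch.N ∣ φ.hom (ch.num c) := by
  let f := Spec.map φ ≫ ch.hV.fromSpec
  obtain ⟨T, g, d, hd, hdf⟩ := hgood
  have hmem : ∀ z : Spec C, f z ∈ ch.V := fun z => by
    show ch.hV.fromSpec (Spec.map φ z) ∈ ch.V
    rw [← SetLike.mem_coe, ← ch.hV.range_fromSpec]
    exact ⟨_, rfl⟩
  -- functions pulled back
  have happ : ∀ (z : Spec C) (b : Γ(P, ch.V)), germF f z (hmem z) b =
      (Spec C).presheaf.germ ⊤ z trivial ((Scheme.ΓSpecIso C).inv (φ b)) := fun z b => by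
    rw [← germ_appLE f (fun z _ => hmem z : (⊤ : (Spec C).Opens) ≤ f ⁻¹ᵁ ch.V) z trivial]
    refine congrArg _ ?_
    suffices h : f.appLE ch.V ⊤ (fun z _ => hmem z) = φ ≫ (Scheme.ΓSpecIso C).inv by rw [h]; rfl
    rw [Scheme.Hom.comp_appLE, ch.hV.fromSpec_app_self, Category.assoc, Scheme.Hom.map_appLE]
    rw [show (Spec.map φ).appLE ⊤ ⊤ _ = (Spec.map φ).appTop from by
      show _ = (Spec.map φ).app ⊤
      rw [Scheme.Hom.app_eq_appLE]
      rfl]
    exact (Scheme.ΓSpecIso_inv_naturality φ).symm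
  constructor
  · intro h c hc
    have hdense := isDenseOpen_of_flat hI π g d f hdf
    rw [← Ideal.mem_span_singleton]
    have := Misc15.DivDescent.mem_of_germ ⟨⊤, isAffineOpen_top (Spec C)⟩
      (Ideal.span {(Scheme.ΓSpecIso C).inv (φ.hom ch.t ^ ch.N)})
      (c := (Scheme.ΓSpecIso C).inv (φ.hom (ch.num c))) fun z hz => by
        rw [Ideal.map_span, Set.image_singleton, Ideal.mem_span_singleton, map_pow, map_pow]
        have h2 := dvd_of_ext ch hdense h z (hmem z) hc
        rw [happ, happ] at h2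
        exact h2
    rw [Ideal.mem_span_singleton] at this ⊢
    have h3 := map_dvd (Scheme.ΓSpecIso C).hom.hom this
    rwa [← ConcreteCategory.comp_apply, ← ConcreteCategory.comp_apply, Iso.inv_hom_id] at h3
  · intro h z V hzV c₀
    refine ext_at_of_dvd ch z (hmem z) (fun c hc => ?_) V hzV c₀
    rw [happ, happ, ← map_pow, ← map_pow]
    exact map_dvd _ (map_dvd _ (h c hc))

/-- The extension predicate. -/
noncomputable def extPred : VanishAbs28.VanPred π where
  E Z f := Ext p s hs f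
  comp Z Z' h f hf := hf.comp h
  desc T g ι Z c hc hsurj h := ext_of_cover π p s hs hI g Z c hc hsurj h
  loc W hW y hy := by
    obtain ⟨ch, hyV, hle, ht, htI⟩ := exists_chart p s hs hI y (π ⁻¹ᵁ W) hy
    let J : Ideal Γ(P, ch.V) := Ideal.span {ch.t ^ ch.N}
    refine ⟨ch.V, ch.hV, hle, hyV, Γ(P, ch.V) ⧸ J, inferInstance, inferInstance, ?_, ?_,
      Ideal.Quotient.mk J ∘ ch.num '' (ch.G : Set _), fun C φ hgood => ?_⟩
    · exact Module.finitePresentation_of_surjective J.mkQ J.mkQ_surjective (by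
        rw [Submodule.ker_mkQ]; exact Submodule.fg_span_singleton _)
    · have hfl := flat_quot_pow π hW ch.hV hle ht htI ch.N
      let _ := (π.appLE W ch.V hle).hom.toAlgebra
      exact RingHom.flat_algebraMap_iff.1 hfl
    · refine (ext_iff_vanish π p s hs hI (W := W) ch C φ hgood).trans ?_
      simp only [Set.forall_mem_image, Function.comp_apply, Finset.mem_coe]
      refine forall₂_congr fun c _ => ?_
      let _ := φ.hom.toAlgebra
      let e := Algebra.TensorProduct.quotIdealMapEquivTensorQuot C J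
      show _ ↔ (1 : C) ⊗ₜ[Γ(P, ch.V)] Ideal.Quotient.mk J (ch.num c) = 0
      have he : e (Ideal.Quotient.mk _ (φ.hom (ch.num c))) = (1 : C) ⊗ₜ[Γ(P, ch.V)] Ideal.Quotient.mk J (ch.num c) := by
        show (φ.hom (ch.num c)) ⊗ₜ[Γ(P, ch.V)] (1 : Γ(P, ch.V) ⧸ J) = _
        rw [show φ.hom (ch.num c) = ch.num c • (1 : C) by rw [Algebra.smul_def, mul_one]; rfl,
          TensorProduct.smul_tmul, Algebra.smul_def, mul_one]
        rfl
      rw [← he, map_eq_zero_iff e e.injective, Ideal.Quotient.eq_zero_iff_mem, Ideal.map_span,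
        Set.image_singleton, Ideal.mem_span_singleton, RingHom.algebraMap_toAlgebra, map_pow]

end Groth.Agent.ExtPred28
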